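import Cfsg.Agent.CosetCert.Pack

/-! Generated: the table. -/

namespace Cfsg.Agent.CosetCert.O73Collapse

def edgeStore : Store := (.leaf 0x2f50000000002f30000000002f10000000002ef0000000002ed0000000002eb0000000002e90000000002e700000)

def repStore : Store := (.leaf 0x0)

def treeStore : Store := (.leaf 0x0)

end Cfsg.Agent.CosetCert.O73Collapse
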